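-- Certificate data for M11A, part 0.
import Cfsg.Agent.Lib.Compute.TCFast
set_option autoImplicit false
set_option maxRecDepth 1000000

open Cfsg.Agent.Lib.Compute.ToddCoxeterPresented

namespace Cfsg.Agent.Lib.Compute.TC.M11A

noncomputable def tEp0l0 : ℕ := nat_lit 0x178000042000018000100000a300003c00000a0000000039200003d00000a00000000173000040000017006a000008700004e00000a0002000019400004300000a00000000000ffffff0000000000000015300003a000015006000001170000410000150001000012300003800001200000000000ffffff000000000000000d200003f0000190002000014800004d00000900000000000ffffff00000000000000000ffffff00000000000000000ffffff0000000000000018800004f0000080001000011300003300001100000000000ffffff000000000000000010000390000180000000010800004a000009000000005e200003000000900000000000ffffff0000000000000010300002f000010000100000f8000046000008000100000f300002c00000f0000000004200002d00001000000000000ffffff0000000002000017800004400001100000000000ffffff00000000000000001000037000017000000000f300002a00000f0002000015800005000000600000000000ffffff00000000000000001000032000015000000000630000220000060001000013800004800000700000000000ffffff000000000200000e300002000000e0000000000100002e00001400000000128000045000006000100000e300001e00000e0000000000100002b00001300000000001000029000012000200000f80000470000050000000000100001f0000100000000000100001d00000f000000000d300001800000d000000000e8000049000004000100000b300001200000b0003000001500001300000c0000000000100001700000e0001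00000d800004b000003000100000d300001400000d00000000000ffffff00000000000000033000010000003000200000d800004c00000200000000000ffffff0000000000000000100001100000d0000000002300000a00000200000000000ffffff0000000001000019300003e0000190000000000100003b0000190000000008300003500000800000000000ffffff00000000000000001000036000016000200001430000310000140000000007300002800000700000000000ffffff00000000010000063000024000006000000000420000250000070000000000100003400000a00000000000ffffff000000000100000830000260000080002000005300001c0000050000000000100002700000900000000000ffffff0000000001000005300001a000005000000000010000230000080000000000100002100001100000000000ffffff0000000000000000100001b000007000000000010000190000060000000004300001600000400000000000ffffff0000000001000002300000c0000020000000004200000d0000030000000000100001500000500000000000ffffff0000000001000004300000e000004000200000030000080000000000000000100000f00000c00000000000ffffff000000000100000030000060000000000000000100000b0000040000000000100000900000b00000000000ffffff00000000010000005000003000001000200000130000040000010000000000300000200000000000000000ffffff000000000000000010000070000030000000000100000500000200000000001000001000001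

/-- the packed entries, part 0 -/
noncomputable def tEp0 : TT := .leaf tEp0l0

end Cfsg.Agent.Lib.Compute.TC.M11A
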